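import Cfsg.Prelude.Def_BlockRank
import Mathlib.GroupTheory.Sylow
import Mathlib.Algebra.Group.Subgroup.Pointwise
import Cfsg.Agent.Prune
set_option linter.all false
prune_inst 0x7f00000000000000000000000000000000000000000000000000000000000000000000000000000000000000000000000000000000000000000000000000000000000000000000000000000000000000003fffffffffffffffffffffffffffbeffbdffffffff

/-!
# S4819, S4820 (blocks with TI Sylow defect groups): interface (helper34)

* `IsTI P` : the hypothesis; `Row p G` : the conclusion of S4819 for `G`; `Cnt p G` : the conclusion of S4820 for `G`;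
* `AS X n H` : `H` has a normal subgroup of type `X` and index `n` with trivial centralizer.

Exceptional rows deliver `Cnt p H` :
`Cnt 3 H` for `AS IsM11 1 H`, `Cnt 5 H` for `AS IsTits 1 H`, `AS IsTits 2 H`, `AS IsMcL 1 H`, `AS IsMcL 2 H`,
`AS (≃ Sz(32)) 5 H`, `Cnt 11 H` for `AS IsJ4 1 H`.
-/

set_option autoImplicit false
open scoped Pointwise

namespace Cfsg.Agent.H34.TI

universe u

/-- The subgroup `P` meets its conjugates trivially. -/
def IsTI {G : Type u} [Group G] (P : Subgroup G) : Prop :=
  ∀ g : G, g ∉ Subgroup.normalizer (P : Set G) → P ⊓ (MulAut.conj g • P) = ⊥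

/-- `p`-defect zero -/
def IsDz (p : ℕ) {G : Type u} [Group G] (χ : Cfsg.IrrCharacter G) : Prop :=
  (Cfsg.charDegree (χ : G → ℂ)).factorization p = (Nat.card G).factorization p

/-- The conclusion of S4819 for `G`. -/
def Row (p : ℕ) [Fact p.Prime] (G : Type u) [Group G] [Finite G] : Prop :=
  ∀ M : Ideal Cfsg.AlgInt, Cfsg.IsPModular p M → ∀ P : Sylow p G, IsTI (P : Subgroup G) →
    ∀ B : Set (Cfsg.IrrCharacter G), Cfsg.IsPBlock M B → Cfsg.IsDefectGroup p M B P →
    ∀ b : Set (Cfsg.IrrCharacter (Subgroup.normalizer ((P : Subgroup G) : Set G))),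
      Cfsg.IsInducedBlock M (Subgroup.normalizer ((P : Subgroup G) : Set G)) b B →
        Cfsg.blockRank p B = Cfsg.blockRank p b

/-- The conclusion of S4820 for `G`. -/
def Cnt (p : ℕ) (G : Type u) [Group G] : Prop :=
  ∀ P : Sylow p G, IsTI (P : Subgroup G) → Nat.card (ConjClasses G) =
    Nat.card (ConjClasses (Subgroup.normalizer ((P : Subgroup G) : Set G))) + Nat.card {χ : Cfsg.IrrCharacter G // IsDz p χ}

/-- `H` has a normal subgroup of index `n` and of type `X` with trivial centralizer. -/
def AS (X : ∀ (S : Type u) [Group S], Prop) (n : ℕ) (H : Type u) [Group H] : Prop :=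
  ∃ S : Subgroup H, S.Normal ∧ S.index = n ∧ Subgroup.centralizer (S : Set H) = ⊥ ∧ X S

/-- The `p`-regular classes. -/
abbrev Reg (p : ℕ) (G : Type u) [Group G] : Type u := {c : ConjClasses G // ¬ p ∣ orderOf c.out}

/-- The classes of elements of order divisible by `p`. -/
abbrev Sing (p : ℕ) (G : Type u) [Group G] : Type u := {c : ConjClasses G // p ∣ orderOf c.out}

/-- LOC-GEN : the singular classes of `N_G(P)` are those of `G`; the regular classes of `N_G(P)` are the classes of
`N_G(P)/P`. -/
def LocGen : Prop :=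
  ∀ (p : ℕ) [Fact p.Prime] (G : Type u) [Group G] [Finite G] (P : Sylow p G), IsTI (P : Subgroup G) →
    Nat.card (ConjClasses (Subgroup.normalizer ((P : Subgroup G) : Set G))) =
      Nat.card (ConjClasses ((Subgroup.normalizer ((P : Subgroup G) : Set G)) ⧸
        ((P : Subgroup G).subgroupOf (Subgroup.normalizer ((P : Subgroup G) : Set G))))) + Nat.card (Sing p G)

end Cfsg.Agent.H34.TI
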